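import Groth.Agent.SekSuwaH1Lib.Points
import Groth.Agent.PowEtCentralLib.Transport

/-! Functions of products of points of `G^(λ)` and of the multiplicative group. -/

set_option autoImplicit false
set_option backward.isDefEq.respectTransparency false
set_option backward.isDefEq.respectTransparency.types false

universe u

open CategoryTheory CategoryTheory.Limits AlgebraicGeometry SekSuwa SekSuwaMonoLib SekSuwaH1Lib
open scoped TensorProduct MonObj
open Groth.Agent

noncomputable section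

namespace SekSuwaExtLib

variable {R : Type u} [CommRing R] {X : Scheme.{u}} (f : X ⟶ Spec (CommRingCat.of R)) {T : Over X}

theorem algebraMap_eq_cst :
    (letI : Algebra R Γ(T.left, ⊤) := (cst (T.hom ≫ f)).toAlgebra; algebraMap R Γ(T.left, ⊤)) = cst (T.hom ≫ f) := rfl

variable {B : Type u} [CommRing B] [HopfAlgebra R B]

/-- Points of an affine group as elements of the convolution monoid. -/
def pval (g : T ⟶ Red.bc f ((Spec (CommRingCat.of B)).asOver (Spec (CommRingCat.of R)))) :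
    letI : Algebra R Γ(T.left, ⊤) := (cst (T.hom ≫ f)).toAlgebra
    WithConv (B →ₐ[R] Γ(T.left, ⊤)) :=
  letI : Algebra R Γ(T.left, ⊤) := (cst (T.hom ≫ f)).toAlgebra
  WithConv.toConv { val (B := B) f g with commutes' := val_algebraMap f g }

theorem pval_mul [IsAffine T.left]
    (g g' : T ⟶ Red.bc f ((Spec (CommRingCat.of B)).asOver (Spec (CommRingCat.of R)))) :
    letI : Algebra R Γ(T.left, ⊤) := (cst (T.hom ≫ f)).toAlgebra
    pval f (g * g') = pval f g * pval f g' := by
  letI : Algebra R Γ(T.left, ⊤) := (cst (T.hom ≫ f)).toAlgebra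
  let e : (Spec (CommRingCat.of Γ(T.left, ⊤))).asOver (Spec (CommRingCat.of R)) ⟶ (Over.map f).obj T :=
    Over.homMk T.left.isoSpec.inv (by
      change T.left.isoSpec.inv ≫ T.hom ≫ f = Spec.map (CommRingCat.ofHom (cst (T.hom ≫ f)))
      rw [Iso.inv_comp_eq]
      exact (SekSuwaGen.eq_toAff (T.hom ≫ f)).symm)
  have key : ∀ g : T ⟶ Red.bc f ((Spec (CommRingCat.of B)).asOver (Spec (CommRingCat.of R))),
      Spec.mapMulEquiv (pval f g) = e ≫ (PowEtCentralLib.adjEquiv f T).symm g := by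
    intro g
    apply Over.OverMorphism.ext
    change Spec.map (CommRingCat.ofHom (val (B := B) f g)) =
      T.left.isoSpec.inv ≫ ((PowEtCentralLib.adjEquiv f T).symm g).left
    have e1 : ((PowEtCentralLib.adjEquiv f T).symm g).left = g.left ≫ pullback.fst _ f := rfl
    rw [e1, Iso.eq_inv_comp]
    exact SekSuwaGen.eq_toAff (g.left ≫ pullback.fst _ f)
  apply Spec.mapMulEquiv.injective
  rw [map_mul, key, key, key, map_mul, MonObj.comp_mul]

theorem pval_apply (g : T ⟶ Red.bc f ((Spec (CommRingCat.of B)).asOver (Spec (CommRingCat.of R)))) (b : B) :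
    letI : Algebra R Γ(T.left, ⊤) := (cst (T.hom ≫ f)).toAlgebra
    (pval f g).ofConv b = val (B := B) f g b := rfl

theorem gen_mul [IsAffine T.left] (v v' : T ⟶ Red.bc f (Red.diag R ℤ)) :
    gen f (v * v') = gen f v * gen f v' := by
  letI : Algebra R Γ(T.left, ⊤) := (cst (T.hom ≫ f)).toAlgebra
  change (pval (B := MonoidAlgebra R (Multiplicative ℤ)) f (v * v')).ofConv _ = _
  rw [pval_mul, AlgHom.convMul_def]
  simp [pval_apply, gen, MonoidAlgebra.comul_single]

theorem gen_comp_mul {G₁ : Over X} [GrpObj G₁] [IsAffine T.left] (φ : G₁ ⟶ Red.bc f (Red.diag R ℤ)) [IsMonHom φ]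
    (g g' : T ⟶ G₁) : gen f ((g * g') ≫ φ) = gen f (g ≫ φ) * gen f (g' ≫ φ) :=
  (congrArg (gen f) (MonObj.mul_comp g g' φ)).trans (gen_mul f _ _)

open MonoidalCategory CartesianMonoidalCategory in
theorem isMonHom_of_affine {S : Scheme.{u}} [IsAffine S] {G₁ G₂ : Over S} [GrpObj G₁] [GrpObj G₂] [IsAffineHom G₁.hom]
    (ψ : G₁ ⟶ G₂)
    (hmul : ∀ (T : Over S) [IsAffine T.left] (g g' : T ⟶ G₁), (g * g') ≫ ψ = (g ≫ ψ) * (g' ≫ ψ)) :
    IsMonHom ψ := by
  haveI : IsAffine (G₁ ⊗ G₁).left := by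
    change IsAffine (pullback G₁.hom G₁.hom)
    haveI : IsAffine G₁.left := isAffine_of_isAffineHom G₁.hom
    exact isAffine_of_isAffineHom (pullback.fst G₁.hom G₁.hom)
  haveI : IsAffine (𝟙_ (Over S)).left := inferInstanceAs (IsAffine S)
  refine ⟨?_, ?_⟩
  · have e := hmul (𝟙_ (Over S)) 1 1
    rw [_root_.one_mul] at e
    rw [MonObj.one_eq_one, MonObj.one_eq_one]
    exact mul_eq_left.1 e.symm
  · rw [MonObj.mul_eq_mul (M := G₁), hmul, MonObj.mul_eq_mul, MonObj.comp_mul, tensorHom_fst, tensorHom_snd]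

theorem isMonHom_of_gen [IsAffine X] {G₁ : Over X} [GrpObj G₁] [IsAffineHom G₁.hom]
    (ψ : G₁ ⟶ Red.bc f (Red.diag R ℤ))
    (hmul : ∀ (T : Over X) [IsAffine T.left] (g g' : T ⟶ G₁),
      gen f ((g * g') ≫ ψ) = gen f (g ≫ ψ) * gen f (g' ≫ ψ)) : IsMonHom ψ :=
  isMonHom_of_affine ψ fun T _ g g' => gen_injective f ((hmul T g g').trans (gen_mul f (g ≫ ψ) (g' ≫ ψ)).symm)

theorem val_mul_t {lam : R} [IsAffine T.left] (g g' : T ⟶ Red.bc f (G R lam)) :
    val (B := A R lam) f (g * g') A.t = val (B := A R lam) f g A.t + val (B := A R lam) f g' A.t +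
      cst (T.hom ≫ f) lam * val (B := A R lam) f g A.t * val (B := A R lam) f g' A.t := by
  letI : Algebra R Γ(T.left, ⊤) := (cst (T.hom ≫ f)).toAlgebra
  change (pval (B := A R lam) f (g * g')).ofConv _ = _
  rw [pval_mul, AlgHom.convMul_def]
  simp [pval_apply, A.comul_t, Algebra.smul_def, mul_assoc]
  rw [val_algebraMap (B := A R lam) f g lam]

end SekSuwaExtLib
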