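import Groth.Agent.SekSuwaExtLib.Poly
import Groth.Agent.SekSuwaExtLib.Mult
import Groth.Agent.SekSuwaAct.Main

/-! Homomorphisms `G_{μ,1} → 𝔾_m` over a quotient of `R` extend to `G^(μ)`. -/

set_option autoImplicit false
set_option maxHeartbeats 800000
set_option backward.isDefEq.respectTransparency false
set_option backward.isDefEq.respectTransparency.types false

universe u

open CategoryTheory CategoryTheory.Limits AlgebraicGeometry MonoidalCategory CartesianMonoidalCategory SekSuwa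
  SekSuwaMonoLib SekSuwaH1Lib
open scoped MonObj
open Groth.Agent

noncomputable section

namespace SekSuwaExtLib

section Gen

variable {R : Type u} [CommRing R] {X : Scheme.{u}} (f : X ⟶ Spec (CommRingCat.of R)) {mu : R} {p : ℕ}
  {h : DivCond mu p}

theorem val_incl {T : Over X} (g : T ⟶ Red.bc f (GK R mu p h)) :
    val (B := A R mu) f (g ≫ (Over.pullback f).map (incl R mu p h)) A.t =
      val (B := AK R mu p h) f g AK.t := by
  rw [val_map (B := AK R mu p h) (B' := A R mu) f (AK.mkHom R mu p h : A R mu →+* AK R mu p h)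
    (incl R mu p h) rfl g]
  rfl

theorem val_mul_AKt {T : Over X} [IsAffine T.left] (g g' : T ⟶ Red.bc f (GK R mu p h)) :
    val (B := AK R mu p h) f (g * g') AK.t = val (B := AK R mu p h) f g AK.t + val (B := AK R mu p h) f g' AK.t +
      cst (T.hom ≫ f) mu * val (B := AK R mu p h) f g AK.t * val (B := AK R mu p h) f g' AK.t := by
  haveI : IsMonHom ((Over.pullback f).map (incl R mu p h)) := inferInstance
  rw [← val_incl f (g * g'), MonObj.mul_comp g g' ((Over.pullback f).map (incl R mu p h)), val_mul_t, val_incl, val_incl]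

theorem val_aeval {T : Over X} {B : Type u} [CommRing B] [Algebra R B] (g : T ⟶ (Over.pullback f).obj (aff B))
    (b : B) (F : Polynomial R) :
    val f g (Polynomial.aeval b F) = F.eval₂ (cst (T.hom ≫ f)) (val f g b) := by
  rw [Polynomial.aeval_def, Polynomial.hom_eval₂]
  exact congrArg (fun φ => F.eval₂ φ _) (RingHom.ext (val_algebraMap f g))

theorem exists_point [IsDomain R] [Fact p.Prime] {T : Over X} (s : Γ(T.left, ⊤))
    (hs : (psiPoly mu p h).eval₂ (cst (T.hom ≫ f)) s = 0) :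
    ∃ g : T ⟶ Red.bc f (GK R mu p h), val (B := AK R mu p h) f g AK.t = s := by
  letI : Algebra R Γ(T.left, ⊤) := (cst (T.hom ≫ f)).toAlgebra
  have hs' : Polynomial.aeval s (psiPoly mu p h) = 0 := hs
  have hu : (1 + mu • s) * (1 + mu • s) ^ (p - 1) = 1 := by
    rw [← pow_succ', Nat.sub_add_cancel (Fact.out : p.Prime).one_le, Algebra.smul_def]
    have := aeval_psiPoly h s
    rw [hs', mul_zero] at this
    exact sub_eq_zero.1 this.symm
  let φ : AK R mu p h →ₐ[R] Γ(T.left, ⊤) :=
    Ideal.Quotient.liftₐ (kerIdeal mu p h) (A.lift R mu s _ hu) (by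
      intro z hz
      obtain ⟨c, rfl⟩ := Ideal.mem_span_singleton'.mp hz
      rw [map_mul, kerGen, ← Polynomial.aeval_algHom_apply, A.lift_t, hs', mul_zero])
  obtain ⟨g, hg⟩ := exists_val_eq (T := T) (B := AK R mu p h) f φ.toRingHom φ.commutes
  refine ⟨g, ?_⟩
  rw [hg]
  exact A.lift_t s _ hu

theorem exists_aeval_eq [IsDomain R] [Fact p.Prime] (z : AK R mu p h) :
    ∃ F : Polynomial R, Polynomial.aeval (AK.t : AK R mu p h) F = z := by
  let S := (Polynomial.aeval (AK.t : AK R mu p h) : Polynomial R →ₐ[R] AK R mu p h).range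
  have ht : (AK.t : AK R mu p h) ∈ S := ⟨Polynomial.X, Polynomial.aeval_X _⟩
  have hi : (AK.inv : AK R mu p h) ∈ S := by
    rw [SekSuwaAct.inv_eq_pow h]
    exact pow_mem (add_mem (one_mem _) (Subalgebra.smul_mem S ht mu)) _
  let σ : A R mu →ₐ[R] AK R mu p h := AK.mkHom R mu p h
  obtain ⟨y, rfl⟩ : ∃ y, σ y = z := Ideal.Quotient.mk_surjective z
  obtain ⟨w, rfl⟩ : ∃ w, A.mk R mu w = y := Ideal.Quotient.mk_surjective y
  suffices σ (A.mk R mu w) ∈ S by exact this
  induction w using MvPolynomial.induction_on with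
  | C r => exact ((σ.comp (A.mk R mu)).commutes r).symm ▸ S.algebraMap_mem r
  | add a b ha hb =>
    change (σ.comp (A.mk R mu)) (a + b) ∈ S
    rw [map_add]
    exact add_mem ha hb
  | mul_X a i ha =>
    change (σ.comp (A.mk R mu)) ((a : SekSuwa.Poly R mu) * (MvPolynomial.X i : MvPolynomial (Fin 2) R)) ∈ S
    erw [map_mul]
    refine mul_mem ha ?_
    fin_cases i
    · exact ht
    · exact hi

theorem psiPoly_val (T : Over X) (g : T ⟶ Red.bc f (GK R mu p h)) :
    (psiPoly mu p h).eval₂ (cst (T.hom ≫ f)) (val (B := AK R mu p h) f g AK.t) = 0 := by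
  rw [← val_aeval (B := AK R mu p h), AK.aeval_t, map_zero]

end Gen

variable {R : Type u} [CommRing R] (I : Ideal R) {mu : R} {p : ℕ} (h : DivCond mu p)

/-- The closed subscheme of `Spec R` of `I`. -/
abbrev iI : Spec (CommRingCat.of (R ⧸ I)) ⟶ Spec (CommRingCat.of R) :=
  Spec.map (CommRingCat.ofHom (Ideal.Quotient.mk I))

theorem cst_specMap {S : Type u} [CommRing S] (φ : R →+* S) (r : R) :
    cst (Spec.map (CommRingCat.ofHom φ)) r = (Scheme.ΓSpecIso (CommRingCat.of S)).inv (φ r) := by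
  have := appTop_specMap (CommRingCat.ofHom φ) (𝟙 _) r
  rw [Category.id_comp] at this
  exact this

theorem val_surjective {C : Type u} [CommRing C] [Algebra R C] :
    Function.Surjective (val (T := (Over.pullback (iI I)).obj (aff C)) (B := C) (iI I) (𝟙 _)) := by
  haveI : IsClosedImmersion (iI I) := IsClosedImmersion.spec_of_surjective _ Ideal.Quotient.mk_surjective
  haveI : IsClosedImmersion (pullback.fst (aff (R := R) C).hom (iI I)) := inferInstance
  haveI : IsAffine (aff (R := R) C).left := isAffine_Spec _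
  have h2 := (IsClosedImmersion.isAffine_surjective_of_isAffine (pullback.fst (aff (R := R) C).hom (iI I))).2
  have e : CommaMorphism.left (𝟙 ((Over.pullback (iI I)).obj (aff C))) ≫ pullback.fst (aff (R := R) C).hom (iI I) =
      pullback.fst _ _ := Category.id_comp _
  intro z
  obtain ⟨y, hy⟩ := h2 z
  obtain ⟨c, rfl⟩ := (ConcreteCategory.bijective_of_isIso (Scheme.ΓSpecIso (CommRingCat.of C)).inv).2 y
  refine ⟨c, ?_⟩
  rw [← hy]
  change (CommaMorphism.left (𝟙 ((Over.pullback (iI I)).obj (aff C))) ≫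
    pullback.fst (aff (R := R) C).hom (iI I)).appTop _ = _
  rw [e]
  rfl

theorem exists_extension [IsDomain R] [Fact p.Prime]
    (φ : Red.bc (iI I) (GK R mu p h) ⟶ Red.bc (iI I) (Red.diag R ℤ)) [IsMonHom φ] :
    ∃ ψ : Red.bc (iI I) (G R mu) ⟶ Red.bc (iI I) (Red.diag R ℤ),
      IsMonHom ψ ∧ (Over.pullback (iI I)).map (incl R mu p h) ≫ ψ = φ := by
  classical
  obtain ⟨hP, hdeg⟩ := SekSuwaAct.psiPoly_monic h
  set P := psiPoly mu p h with hPdef
  let W := Red.bc (iI I) (GK R mu p h)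
  obtain ⟨z, hz⟩ := val_surjective (C := AK R mu p h) I (gen (iI I) φ)
  obtain ⟨F₀, rfl⟩ := exists_aeval_eq z
  set F := F₀ %ₘ P with hFdef
  have hF : F.natDegree < p := by
    rw [← hdeg]
    exact Polynomial.natDegree_modByMonic_lt _ hP (fun h1 => by
      have := congrArg Polynomial.natDegree h1
      rw [Polynomial.natDegree_one, hdeg] at this
      exact (Fact.out : p.Prime).pos.ne' this)
  have hFφ : ∀ (T : Over (Spec (CommRingCat.of (R ⧸ I)))) (g : T ⟶ W),
      gen (iI I) (g ≫ φ) = F.eval₂ (cst (T.hom ≫ iI I)) (val (B := AK R mu p h) (iI I) g AK.t) := by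
    intro T g
    refine (gen_comp (iI I) g φ).trans ?_
    rw [← hz]
    refine (val_comp (B := AK R mu p h) (iI I) g (𝟙 W) _).symm.trans ?_
    rw [Category.comp_id, ← val_aeval (B := AK R mu p h)]
    congr 1
    rw [hFdef, Polynomial.aeval_modByMonic_eq_self_of_root]
    exact AK.aeval_t
  let Fb := F.map (Ideal.Quotient.mk I)
  have hFb : ∀ (D : Type u) [CommRing D] [Algebra (R ⧸ I) D] (s : D),
      (F.eval₂ (cst ((Spec.map (CommRingCat.ofHom (algebraMap (R ⧸ I) D))) ≫ iI I))
        ((Scheme.ΓSpecIso (CommRingCat.of D)).inv s)) =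
      (Scheme.ΓSpecIso (CommRingCat.of D)).inv (Polynomial.aeval s Fb) := by
    intro D _ _ s
    rw [Polynomial.aeval_def, Polynomial.eval₂_map]
    rw [show ((Scheme.ΓSpecIso (CommRingCat.of D)).inv) (F.eval₂ ((algebraMap (R ⧸ I) D).comp (Ideal.Quotient.mk I)) s) =
      (Scheme.ΓSpecIso (CommRingCat.of D)).inv.hom (F.eval₂ ((algebraMap (R ⧸ I) D).comp (Ideal.Quotient.mk I)) s) from rfl,
      Polynomial.hom_eval₂]
    congr 1
    refine RingHom.ext fun r => ?_
    rw [iI, ← Spec.map_comp, ← CommRingCat.ofHom_comp, cst_specMap]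
    rfl
  have hroot : ∀ (D : Type u) [CommRing D] [Algebra (R ⧸ I) D] (s : D),
      Polynomial.aeval s (P.map (Ideal.Quotient.mk I)) = 0 →
      ∃ g : Over.mk (Spec.map (CommRingCat.ofHom (algebraMap (R ⧸ I) D))) ⟶ W,
        val (B := AK R mu p h) (iI I) g AK.t = (Scheme.ΓSpecIso (CommRingCat.of D)).inv s := by
    intro D _ _ s hs
    refine exists_point (iI I) _ ?_
    rw [Polynomial.aeval_def, Polynomial.eval₂_map] at hs
    change P.eval₂ (cst (Spec.map (CommRingCat.ofHom (algebraMap (R ⧸ I) D)) ≫ iI I)) _ = 0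
    rw [iI, ← Spec.map_comp, ← CommRingCat.ofHom_comp,
      show cst (Spec.map (CommRingCat.ofHom ((algebraMap (R ⧸ I) D).comp (Ideal.Quotient.mk I)))) =
        (Scheme.ΓSpecIso (CommRingCat.of D)).inv.hom.comp ((algebraMap (R ⧸ I) D).comp (Ideal.Quotient.mk I)) from
        RingHom.ext (cst_specMap _)]
    rw [← Polynomial.hom_eval₂, hs, map_zero]
  let muB := Ideal.Quotient.mk I mu
  have hlaw : ∀ (D : Type u) [CommRing D] [Algebra (R ⧸ I) D] (s t : D),
      Polynomial.aeval s (P.map (Ideal.Quotient.mk I)) = 0 → Polynomial.aeval t (P.map (Ideal.Quotient.mk I)) = 0 →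
      Polynomial.aeval (s + t + algebraMap (R ⧸ I) D muB * s * t) Fb =
        Polynomial.aeval s Fb * Polynomial.aeval t Fb := by
    intro D _ _ s t hs ht
    obtain ⟨g, hg⟩ := hroot D s hs
    obtain ⟨g', hg'⟩ := hroot D t ht
    haveI : IsAffine (Over.mk (Spec.map (CommRingCat.ofHom (algebraMap (R ⧸ I) D)))).left := isAffine_Spec _
    have h1 := gen_comp_mul (iI I) φ g g'
    rw [hFφ, hFφ, hFφ, val_mul_AKt, hg, hg'] at h1
    apply (ConcreteCategory.bijective_of_isIso (Scheme.ΓSpecIso (CommRingCat.of D)).inv).1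
    rw [map_mul, ← hFb, ← hFb, ← hFb]
    refine Eq.trans ?_ h1
    congr 1
    simp only [map_add, map_mul]
    congr 3
    change _ = cst (Spec.map _ ≫ Spec.map _) mu
    rw [← Spec.map_comp, ← CommRingCat.ofHom_comp, cst_specMap]
    rfl
  have hlaw' : ∀ {C : Type u} [CommRing C] [Algebra (R ⧸ I) C] (a b : C),
      Polynomial.aeval (a + b + algebraMap (R ⧸ I) C muB * a * b) Fb =
        Polynomial.aeval a Fb * Polynomial.aeval b Fb := by
    intro C _ _ a b
    rcases subsingleton_or_nontrivial (R ⧸ I) with hB | hB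
    · haveI : Subsingleton C := (algebraMap (R ⧸ I) C).codomain_trivial
      exact Subsingleton.elim _ _
    refine aeval_law_of_roots muB (hP.map (Ideal.Quotient.mk I)) ?_ hlaw a b
    rw [hP.natDegree_map, hdeg]
    exact lt_of_le_of_lt Polynomial.natDegree_map_le hF
  have h00 : Fb.eval 0 = 1 := by
    have hs : Polynomial.aeval (0 : R ⧸ I) (P.map (Ideal.Quotient.mk I)) = 0 := by
      rw [Polynomial.coe_aeval_eq_eval, Polynomial.eval_zero_map, hPdef, psiPoly_eval_zero, map_zero]
    obtain ⟨g, hg⟩ := hroot (R ⧸ I) 0 hs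
    have hu : IsUnit (gen (iI I) (g ≫ φ)) := isUnit_gen _ _
    rw [hFφ, hg] at hu
    have e := hlaw' (0 : R ⧸ I) 0
    simp only [mul_zero, add_zero, Polynomial.coe_aeval_eq_eval] at e
    have hu' : IsUnit (Fb.eval 0) := by
      change IsUnit (F.eval₂ (cst (Spec.map _ ≫ iI I)) _) at hu
      erw [hFb (R ⧸ I) 0] at hu
      rw [← Polynomial.coe_aeval_eq_eval]
      have := hu.map (Scheme.ΓSpecIso (CommRingCat.of (R ⧸ I))).hom.hom
      simpa using this
    exact hu'.mul_eq_left.1 e.symm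
  have hlawT : ∀ (T : Over (Spec (CommRingCat.of (R ⧸ I)))) (a b : Γ(T.left, ⊤)),
      F.eval₂ (cst (T.hom ≫ iI I)) (a + b + cst (T.hom ≫ iI I) mu * a * b) =
        F.eval₂ (cst (T.hom ≫ iI I)) a * F.eval₂ (cst (T.hom ≫ iI I)) b ∧
      F.eval₂ (cst (T.hom ≫ iI I)) 0 = 1 := by
    intro T a b
    letI : Algebra (R ⧸ I) Γ(T.left, ⊤) := (cst (R := R ⧸ I) T.hom).toAlgebra
    have e : cst (T.hom ≫ iI I) = (algebraMap (R ⧸ I) Γ(T.left, ⊤)).comp (Ideal.Quotient.mk I) := by
      refine RingHom.ext fun r => ?_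
      exact appTop_specMap (CommRingCat.ofHom (Ideal.Quotient.mk I)) T.hom r
    have e' : ∀ c, F.eval₂ (cst (T.hom ≫ iI I)) c = Polynomial.aeval c Fb := fun c => by
      rw [e, Polynomial.aeval_def, Polynomial.eval₂_map]
    rw [e', e', e', e', e]
    refine ⟨hlaw' a b, ?_⟩
    rw [← map_zero (algebraMap (R ⧸ I) Γ(T.left, ⊤)), Polynomial.aeval_algebraMap_apply_eq_algebraMap_eval, h00, map_one]
  let G' := Red.bc (iI I) (G R mu)
  let τ := val (B := A R mu) (iI I) (𝟙 G') A.t
  have hu : IsUnit (F.eval₂ (cst (G'.hom ≫ iI I)) τ) := by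
    let τ' := -(τ * val (B := A R mu) (iI I) (𝟙 G') A.inv)
    refine IsUnit.of_mul_eq_one (F.eval₂ (cst (G'.hom ≫ iI I)) τ') ?_
    rw [← (hlawT G' τ τ').1]
    convert (hlawT G' τ τ').2 using 2
    have e := congrArg (val (B := A R mu) (iI I) (𝟙 G')) (A.u_mul_inv (R := R) (lam := mu))
    rw [map_mul, map_one, A.u_def, map_add, map_one, map_mul, val_algebraMap] at e
    linear_combination (-τ) * e
  obtain ⟨ψ, hψ⟩ := exists_gen_eq (T := G') (iI I) hu.unit
  have hψg : ∀ (T : Over (Spec (CommRingCat.of (R ⧸ I)))) (g : T ⟶ G'),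
      gen (iI I) (g ≫ ψ) = F.eval₂ (cst (T.hom ≫ iI I)) (val (B := A R mu) (iI I) g A.t) := by
    intro T g
    have e1 := val_comp (B := A R mu) (iI I) g (𝟙 G') (Polynomial.aeval A.t F)
    rw [Category.comp_id, val_aeval, val_aeval] at e1
    rw [gen_comp, hψ, IsUnit.unit_spec, e1]
  haveI : IsAffineHom G'.hom := by
    haveI : IsAffine (G R mu).left := isAffine_Spec _
    haveI : IsAffineHom (G R mu).hom := isAffineHom_of_isAffine _
    exact MorphismProperty.pullback_snd (P := @IsAffineHom) _ (iI I) inferInstance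
  refine ⟨ψ, isMonHom_of_gen (iI I) ψ (fun T _ g g' => ?_), ?_⟩
  · rw [hψg, hψg, hψg, val_mul_t, (hlawT T _ _).1]
  · refine gen_injective (iI I) ?_
    have e := hFφ W (𝟙 W)
    rw [Category.id_comp] at e
    rw [hψg, e]
    congr 1
    rw [← val_incl (iI I) (𝟙 W), Category.id_comp]

end SekSuwaExtLib
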