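import Mathlib

/-! Multiplicative polynomials of degree less than `p` for the law `S + T + μST`. -/

set_option autoImplicit false
set_option backward.isDefEq.respectTransparency false
set_option backward.isDefEq.respectTransparency.types false

universe u v

open Polynomial

noncomputable section

namespace SekSuwaExtLib

variable {B : Type u} [CommRing B] (μ : B)

/-- The law as a linear polynomial in the second variable. -/
def law : Polynomial (Polynomial B) := C X + C (1 + C μ * X) * X

theorem natDegree_law : (law μ).natDegree ≤ 1 := by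
  unfold law
  compute_degree

theorem natDegree_coeff_law_pow (k j : ℕ) : ((law μ ^ k).coeff j).natDegree ≤ k := by
  induction k generalizing j with
  | zero =>
    rw [pow_zero, coeff_one]
    split_ifs <;> simp
  | succ k ih =>
    have h1 : ∀ i, ((law μ).coeff i).natDegree ≤ 1 := by
      intro i
      rcases i with _ | _ | i
      · simp [law, natDegree_X_le]
      · simp only [law, coeff_add, coeff_C, coeff_C_mul, coeff_X_one, mul_one]
        norm_num
        compute_degree
      · simp [law, coeff_X, coeff_one]
    rw [pow_succ, coeff_mul]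
    refine natDegree_sum_le_of_forall_le _ _ fun x _ => ?_
    exact natDegree_mul_le.trans (Nat.add_le_add (ih _) (h1 _))

theorem natDegree_coeff_aeval_law (F : Polynomial B) (j : ℕ) :
    ((aeval (law μ) F).coeff j).natDegree ≤ F.natDegree := by
  rw [aeval_eq_sum_range, finset_sum_coeff]
  refine natDegree_sum_le_of_forall_le _ _ fun i hi => ?_
  rw [coeff_smul]
  exact (natDegree_smul_le _ _).trans ((natDegree_coeff_law_pow μ i j).trans (Nat.lt_succ_iff.1 (Finset.mem_range.1 hi)))

theorem natDegree_aeval_law (F : Polynomial B) : (aeval (law μ) F).natDegree ≤ F.natDegree := by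
  rw [aeval_eq_sum_range]
  refine natDegree_sum_le_of_forall_le _ _ fun i hi => ?_
  refine (natDegree_smul_le _ _).trans (natDegree_pow_le.trans ?_)
  exact (Nat.mul_le_mul_left _ (natDegree_law μ)).trans (by have := Finset.mem_range.1 hi; omega)

/-- A polynomial of small degree which is multiplicative on two roots of a monic polynomial is multiplicative. -/
theorem aeval_law_of_roots {P F : Polynomial B} (hP : P.Monic) (hF : F.natDegree < P.natDegree)
    (h : ∀ (D : Type u) [CommRing D] [Algebra B D] (s t : D), aeval s P = 0 → aeval t P = 0 →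
      aeval (s + t + algebraMap B D μ * s * t) F = aeval s F * aeval t F)
    {C' : Type v} [CommRing C'] [Algebra B C'] (a b : C') :
    aeval (a + b + algebraMap B C' μ * a * b) F = aeval a F * aeval b F := by
  set Q : Polynomial (Polynomial B) := aeval (law μ) F - C F * aeval (X : Polynomial (Polynomial B)) F with hQdef
  have hval : ∀ {E : Type u} [CommRing E] [Algebra B E] (ψ : Polynomial (Polynomial B) →ₐ[B] E),
      ψ Q = aeval (ψ (C X) + ψ X + algebraMap B E μ * ψ (C X) * ψ X) F - aeval (ψ (C X)) F * aeval (ψ X) F := by
    intro E _ _ ψ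
    rw [hQdef, map_sub, map_mul, ← aeval_algHom_apply, ← aeval_algHom_apply]
    congr 2
    · congr 1
      simp only [law, map_add, map_mul, map_one]
      rw [show ψ (C (C μ)) = algebraMap B E μ from ψ.commutes μ]
      ring
    · calc ψ (C F) = ψ (aeval (C X : Polynomial (Polynomial B)) F) := by
            congr 1
            rw [show (C X : Polynomial (Polynomial B)) = algebraMap (Polynomial B) _ X from rfl,
              aeval_algebraMap_apply, aeval_X_left_apply]
            rfl
        _ = _ := (aeval_algHom_apply ψ _ _).symm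
  let D₁ := AdjoinRoot P
  let P' : Polynomial D₁ := P.map (AdjoinRoot.of P)
  let ψ : Polynomial (Polynomial B) →ₐ[B] AdjoinRoot P' :=
    ((AdjoinRoot.mkₐ P').restrictScalars B).comp (mapAlgHom (AdjoinRoot.mkₐ P : Polynomial B →ₐ[B] D₁))
  have hψ : ψ Q = 0 := by
    rw [hval ψ, sub_eq_zero]
    refine h (AdjoinRoot P') _ _ ?_ ?_
    · have e : ψ (C X) = algebraMap D₁ (AdjoinRoot P') (AdjoinRoot.root P) := by
        change AdjoinRoot.mk P' ((C X : Polynomial (Polynomial B)).map _) = _
        rw [map_C]
        rfl
      rw [e, aeval_algebraMap_apply, AdjoinRoot.aeval_eq, AdjoinRoot.mk_self, map_zero]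
    · have e : ψ X = AdjoinRoot.root P' := by
        change AdjoinRoot.mk P' ((X : Polynomial (Polynomial B)).map _) = _
        rw [map_X]
        rfl
      have h2 : aeval (AdjoinRoot.root P') P' = 0 := by rw [AdjoinRoot.aeval_eq, AdjoinRoot.mk_self]
      rw [e, ← h2, show P' = P.map (algebraMap B D₁) from rfl, aeval_map_algebraMap]
  have hQ1 : Q.natDegree ≤ F.natDegree := by
    refine natDegree_sub_le_iff_left ?_ |>.2 (natDegree_aeval_law μ F)
    refine (natDegree_C_mul_le _ _).trans ?_
    rw [aeval_X_left_eq_map]
    exact natDegree_map_le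
  have hQ2 : ∀ j, (Q.coeff j).natDegree ≤ F.natDegree := by
    intro j
    rw [hQdef, coeff_sub]
    refine natDegree_sub_le_iff_left ?_ |>.2 (natDegree_coeff_aeval_law μ F j)
    rw [coeff_C_mul, aeval_X_left_eq_map, coeff_map]
    exact natDegree_mul_le.trans (by simp)
  have hQ : Q = 0 := by
    rcases subsingleton_or_nontrivial B with hB | hB
    · exact Subsingleton.elim _ _
    haveI : Nontrivial D₁ := by
      refine ⟨1, 0, fun h1 => ?_⟩
      have h2 : AdjoinRoot.mk P 1 = 0 := by rw [map_one]; exact h1
      exact hP.not_dvd_of_natDegree_lt one_ne_zero (by rw [natDegree_one]; omega) (AdjoinRoot.mk_eq_zero.1 h2)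
    have hP' : P'.Monic := hP.map _
    have hm : Q.map (AdjoinRoot.mk P) = 0 := by
      have hd : P' ∣ Q.map (AdjoinRoot.mk P) := AdjoinRoot.mk_eq_zero.1 hψ
      by_contra hne
      refine hP'.not_dvd_of_natDegree_lt hne ?_ hd
      rw [show P'.natDegree = P.natDegree from hP.natDegree_map _]
      exact lt_of_le_of_lt (natDegree_map_le.trans hQ1) hF
    ext1 j
    rw [coeff_zero]
    have hj : AdjoinRoot.mk P (Q.coeff j) = 0 := by rw [← coeff_map, hm, coeff_zero]
    by_contra hne
    exact hP.not_dvd_of_natDegree_lt hne (lt_of_le_of_lt (hQ2 j) hF) (AdjoinRoot.mk_eq_zero.1 hj)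
  let χ : Polynomial (Polynomial B) →ₐ[B] C' := Polynomial.eval₂AlgHom (aeval a) b (fun _ => Commute.all _ _)
  have hl : χ (law μ) = a + b + algebraMap B C' μ * a * b := by
    simp [χ, law]
    ring
  have h0 := congrArg χ hQ
  rw [hQdef, map_sub, map_mul, map_zero, sub_eq_zero, ← aeval_algHom_apply, ← aeval_algHom_apply, hl,
    show χ (C F) = aeval a F from eval₂_C _ _, show χ X = b from eval₂_X _ _] at h0
  exact h0

end SekSuwaExtLib
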